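import Groth.Agent.EtAlg7.EssEtale

/-! # Total fraction rings of essentially étale algebras over reduced rings -/

universe u

open TensorProduct nonZeroDivisors

namespace Groth.Agent.EssEtFrac5

/-- The total fraction ring of a reduced ring with finitely many minimal primes is Artinian. -/
theorem isArtinianRing_fractionRing {A : Type u} [CommRing A] [IsReduced A] (hmin : (minimalPrimes A).Finite) :
    IsArtinianRing (FractionRing A) := by
  let K := FractionRing A
  haveI : IsReduced K := isReduced_localizationPreserves A⁰ _ inferInstance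
  have hz : ∀ P : Ideal A, P.IsPrime → Disjoint (A⁰ : Set A) P → P ∈ minimalPrimes A := by
    intro P hP hd
    have hsub : (P : Set A) ⊆ ⋃ p ∈ hmin.toFinset, ((id p : Ideal A) : Set A) := fun x hx => by
      by_contra hn
      simp only [Set.mem_iUnion, Set.Finite.mem_toFinset, not_exists] at hn
      refine Set.disjoint_left.1 hd (mem_nonZeroDivisors_iff_right.2 fun y hy => ?_) hx
      have : y ∈ sInf ((⊥ : Ideal A).minimalPrimes) := Ideal.mem_sInf.2 fun {p} hp =>
        (hp.1.1.mem_or_mem (hy ▸ p.zero_mem : y * x ∈ p)).resolve_right (hn p hp)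
      rw [Ideal.sInf_minimalPrimes, ← Ideal.zero_eq_bot] at this
      exact (mem_nilradical.1 this).eq_zero
    obtain ⟨p, hp, hle⟩ := (Ideal.subset_union_prime ⊤ ⊤
      (fun p hp _ _ => (hmin.mem_toFinset.1 hp).1.1)).1 hsub
    exact (le_antisymm hle ((hmin.mem_toFinset.1 hp).2 ⟨hP, bot_le⟩ hle)) ▸ hmin.mem_toFinset.1 hp
  haveI : Finite (PrimeSpectrum K) := by
    haveI : Finite ↥(minimalPrimes A) := hmin.to_subtype
    refine Finite.of_injective (fun P => (⟨_, hz (P.asIdeal.comap (algebraMap A K)) inferInstance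
      ((IsLocalization.isPrime_iff_isPrime_disjoint A⁰ K _).1 P.2).2⟩ : ↥(minimalPrimes A))) fun P Q h => ?_
    exact PrimeSpectrum.localization_comap_injective K A⁰ (PrimeSpectrum.ext (congrArg Subtype.val h))
  have hmax : ∀ P : Ideal K, P.IsPrime → P.IsMaximal := fun P hP => by
    obtain ⟨M, hM, hPM⟩ := P.exists_le_maximal hP.ne_top
    have h2 := hz _ (hM.isPrime.comap (algebraMap A K)) ((IsLocalization.isPrime_iff_isPrime_disjoint A⁰ K _).1 hM.isPrime).2
    have h3 : P.comap (algebraMap A K) = M.comap (algebraMap A K) :=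
      le_antisymm (Ideal.comap_mono hPM) (h2.2 ⟨hP.comap _, bot_le⟩ (Ideal.comap_mono hPM))
    have := PrimeSpectrum.localization_comap_injective K A⁰ (a₁ := ⟨P, hP⟩) (a₂ := ⟨M, hM.isPrime⟩) (PrimeSpectrum.ext h3)
    rw [show P = M from congrArg PrimeSpectrum.asIdeal this]
    exact hM
  let f : K →+* ((P : PrimeSpectrum K) → K ⧸ P.asIdeal) := Pi.ringHom fun P => Ideal.Quotient.mk P.asIdeal
  have hinj : Function.Injective f := (injective_iff_map_eq_zero f).2 fun x hx =>
    (nilpotent_iff_mem_prime.2 fun J hJ => Ideal.Quotient.eq_zero_iff_mem.1 (congrFun hx ⟨J, hJ⟩)).eq_zero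
  have hsurj : Function.Surjective f := fun y => by
    have hco : Pairwise (Function.onFun IsCoprime fun P : PrimeSpectrum K => P.asIdeal) := fun P Q h =>
      Ideal.isCoprime_iff_sup_eq.2 ((hmax _ P.2).coprime_of_ne (hmax _ Q.2) fun e => h (PrimeSpectrum.ext e))
    obtain ⟨z, hz'⟩ := Ideal.quotientInfToPiQuotient_surj hco y
    obtain ⟨z, rfl⟩ := Ideal.Quotient.mk_surjective z
    exact ⟨z, hz'⟩
  haveI : ∀ P : PrimeSpectrum K, IsArtinianRing (K ⧸ P.asIdeal) := fun P => by
    letI := @Ideal.Quotient.field _ _ P.asIdeal (hmax _ P.2)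
    infer_instance
  exact (RingEquiv.ofBijective f ⟨hinj, hsurj⟩).symm.surjective.isArtinianRing
  

variable {A C E : Type u} [CommRing A] [CommRing C] [CommRing E] [Algebra A C] [Algebra C E] [Algebra A E]
  [IsScalarTower A C E] (T : Submonoid C) [IsLocalization T E]

include T in
/-- If `A^tot` is Artinian and `C ⊗ A^tot` is finite, then inverting non-zero-divisors of `A` in a flat
localization `E` of `C` gives the total fraction ring, which is a quotient of `C ⊗ A^tot`. -/
theorem fractionRing_of_finite [Module.Flat A E] [IsArtinianRing (FractionRing A)]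
    [Module.Finite (FractionRing A) (FractionRing A ⊗[A] C)] :
    IsLocalization ((A⁰).map (algebraMap A E)) (FractionRing E) ∧
      ∃ t : Finset (FractionRing E), ∀ x : FractionRing E, ∃ a ∈ A⁰,
        algebraMap A (FractionRing E) a * x ∈ Submodule.span A (t : Set (FractionRing E)) := by
  classical
  let K := FractionRing A
  let S := (A⁰).map (algebraMap A E)
  have hS : S ≤ E⁰ := by
    rintro _ ⟨a, ha, rfl⟩
    refine mem_nonZeroDivisors_iff_right.2 fun y hy => ?_
    refine Module.Flat.isSMulRegular_of_nonZeroDivisors (M := E) ha ?_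
    show a • y = a • 0
    rw [smul_zero, Algebra.smul_def, mul_comm]
    exact hy
  let E' := Localization S
  have hu : ∀ a : A⁰, IsUnit (algebraMap A E' a) := fun a => by
    rw [IsScalarTower.algebraMap_apply A E E']
    exact IsLocalization.map_units E' (⟨_, a, a.2, rfl⟩ : S)
  let g : K →ₐ[A] E' := IsLocalization.liftAlgHom (M := A⁰) (f := Algebra.ofId A E') hu
  let ψ : K ⊗[A] C →ₐ[A] E' := Algebra.TensorProduct.lift g
    ((IsScalarTower.toAlgHom A E E').comp (IsScalarTower.toAlgHom A C E)) fun _ _ => Commute.all _ _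
  haveI : IsArtinianRing (K ⊗[A] C) := IsArtinianRing.of_finite K _
  haveI : IsArtinianRing ψ.toRingHom.range := (RingHom.rangeRestrict_surjective ψ.toRingHom).isArtinianRing
  have hψC : ∀ c, ψ ((1 : K) ⊗ₜ c) = algebraMap E E' (algebraMap C E c) := fun c => by simp [ψ]
  have hψ : Function.Surjective ψ := by
    intro x
    obtain ⟨e, s, rfl⟩ := IsLocalization.exists_mk'_eq S x
    obtain ⟨c, t, rfl⟩ := IsLocalization.exists_mk'_eq T e
    obtain ⟨a, ha, hs⟩ := s.2
    let t' : ψ.toRingHom.range := ⟨ψ ((1 : K) ⊗ₜ (t : C)), _, rfl⟩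
    have htu : IsUnit (ψ ((1 : K) ⊗ₜ (t : C))) := by
      rw [hψC]; exact (IsLocalization.map_units E t).map _
    have ht' : IsUnit t' := IsArtinianRing.isUnit_of_mem_nonZeroDivisors
      (mem_nonZeroDivisors_iff_right.2 fun y hy =>
        Subtype.ext (htu.mul_left_eq_zero.1 (congrArg Subtype.val hy)))
    obtain ⟨⟨u, r, hr⟩, hu'⟩ := ht'.exists_right_inv
    have hu'' : ψ ((1 : K) ⊗ₜ (t : C)) * u = 1 := congrArg Subtype.val hu'
    refine ⟨((1 : K) ⊗ₜ c) * r * ((IsLocalization.mk' K (1 : A) ⟨a, ha⟩) ⊗ₜ (1 : C)), ?_⟩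
    refine (IsLocalization.eq_mk'_iff_mul_eq (M := S)).2 ?_
    have hga : ψ ((IsLocalization.mk' K (1 : A) ⟨a, ha⟩) ⊗ₜ (1 : C)) * algebraMap E E' s = 1 := by
      rw [← hs, ← IsScalarTower.algebraMap_apply A E E', ← g.commutes]
      simp only [ψ, Algebra.TensorProduct.lift_tmul, map_one, mul_one]
      rw [← map_mul, IsLocalization.mk'_spec, map_one, map_one]
    have hr' : ψ r = u := hr
    rw [map_mul, map_mul, hr', hψC, mul_assoc, hga, mul_one]
    have hct : algebraMap E E' (IsLocalization.mk' E c t) * ψ ((1 : K) ⊗ₜ (t : C)) = algebraMap E E' (algebraMap C E c) := by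
      rw [hψC, ← map_mul, IsLocalization.mk'_spec]
    rw [← hct, mul_assoc, hu'', mul_one]
  haveI : IsArtinianRing E' := Function.Surjective.isArtinianRing (f := ψ.toRingHom) hψ
  have hE'inj : Function.Injective (algebraMap E E') := IsLocalization.injective E' hS
  haveI : IsFractionRing E E' := IsLocalization.of_le S E⁰ hS fun r hr =>
    IsArtinianRing.isUnit_of_mem_nonZeroDivisors (IsLocalization.map_nonZeroDivisors_le S E' ⟨r, hr, rfl⟩)
  let ε : E' ≃ₐ[E] FractionRing E := (FractionRing.algEquiv E E').symm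
  refine ⟨IsLocalization.isLocalization_of_algEquiv S ε, ?_⟩
  obtain ⟨G, hG⟩ := Module.Finite.fg_top (R := K) (M := K ⊗[A] C)
  let Φ : K ⊗[A] C →ₐ[A] FractionRing E := (ε.toAlgHom.restrictScalars A).comp ψ
  refine ⟨G.image Φ, fun x => ?_⟩
  obtain ⟨z, hz⟩ := hψ (ε.symm x)
  have hx : Φ z = x := by show ε (ψ z) = x; rw [hz, ε.apply_symm_apply]
  subst hx
  have hmem : z ∈ Submodule.span K (G : Set (K ⊗[A] C)) := hG.symm ▸ Submodule.mem_top
  suffices h : ∃ a ∈ A⁰, a • z ∈ Submodule.span A (G : Set (K ⊗[A] C)) by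
    obtain ⟨a, ha, h⟩ := h
    refine ⟨a, ha, ?_⟩
    rw [← Algebra.smul_def, ← map_smul, Finset.coe_image]
    exact Submodule.map_span Φ.toLinearMap _ ▸ Submodule.mem_map_of_mem h
  clear hz
  induction hmem using Submodule.span_induction with
  | mem z hz => exact ⟨1, one_mem _, by rw [one_smul]; exact Submodule.subset_span hz⟩
  | zero => exact ⟨1, one_mem _, by simp⟩
  | add y z _ _ hy hz =>
    obtain ⟨a, ha, hy⟩ := hy
    obtain ⟨b, hb, hz⟩ := hz
    refine ⟨a * b, mul_mem ha hb, ?_⟩
    rw [smul_add, mul_comm a b, mul_smul]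
    refine add_mem (Submodule.smul_mem _ _ hy) ?_
    rw [mul_comm, mul_smul]
    exact Submodule.smul_mem _ _ hz
  | smul k z _ hz =>
    obtain ⟨a, ha, hz⟩ := hz
    obtain ⟨⟨r, s⟩, hrs⟩ := IsLocalization.surj A⁰ k
    refine ⟨s * a, mul_mem s.2 ha, ?_⟩
    have : ((s : A) * a) • (k • z) = r • (a • z) := by
      rw [← algebraMap_smul K ((s : A) * a) (k • z), ← algebraMap_smul K r (a • z), ← algebraMap_smul K a z,
        smul_smul, smul_smul, ← hrs, map_mul]
      congr 1
      ring
    rw [this]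
    exact Submodule.smul_mem _ _ hz

end Groth.Agent.EssEtFrac5
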