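import Groth.Agent.S16448
import Groth.Agent.HenselConn.Lift
import Groth.Agent.EssEtLib.LocalHom
import Mathlib

/-!
# Subalgebras of an essentially étale local algebra and their total fraction rings
-/

universe u

open IsLocalRing
open scoped nonZeroDivisors

namespace Groth.Agent.EssEtFrac5

variable {A E R : Type u} [CommRing A] [CommRing E] [CommRing R] [Algebra A E] [Algebra A R]

section

variable (hloc : IsLocalization ((A⁰).map (algebraMap A E)) (FractionRing E))
  (hfin : ∃ t : Finset (FractionRing E), ∀ x : FractionRing E, ∃ a ∈ A⁰,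
      algebraMap A (FractionRing E) a * x ∈ Submodule.span A (t : Set (FractionRing E)))

include hloc in
theorem isUnit_algebraMap_fractionRing (a : A⁰) : IsUnit (algebraMap A (FractionRing E) a) := by
  rw [IsScalarTower.algebraMap_apply A E (FractionRing E)]
  exact IsLocalization.map_units (FractionRing E) (⟨_, a, a.2, rfl⟩ : (A⁰).map (algebraMap A E))

/-- The `A^tot`-algebra structure on `E^tot`. -/
noncomputable def fracHom : FractionRing A →+* FractionRing E :=
  IsLocalization.lift (isUnit_algebraMap_fractionRing hloc)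

theorem fracHom_algebraMap (a : A) : fracHom hloc (algebraMap A _ a) = algebraMap A (FractionRing E) a :=
  IsLocalization.lift_eq _ _

theorem fracHom_mul (r : A) (s : A⁰) :
    algebraMap A (FractionRing E) s * fracHom hloc (IsLocalization.mk' (FractionRing A) r s) =
      algebraMap A (FractionRing E) r := by
  rw [← fracHom_algebraMap hloc, ← map_mul, mul_comm, IsLocalization.mk'_spec, fracHom_algebraMap]

include hloc in
theorem nzd_smul_eq_zero {x : FractionRing E} (a : A⁰) (h : algebraMap A (FractionRing E) a * x = 0) : x = 0 :=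
  (isUnit_algebraMap_fractionRing hloc a).mul_right_eq_zero.1 h

include hloc hfin in
theorem finite_fracHom :
    letI := (fracHom hloc).toAlgebra
    Module.Finite (FractionRing A) (FractionRing E) := by
  letI := (fracHom hloc).toAlgebra
  obtain ⟨t, ht⟩ := hfin
  haveI : IsScalarTower A (FractionRing A) (FractionRing E) :=
    IsScalarTower.of_algebraMap_eq fun a => (fracHom_algebraMap hloc a).symm
  refine ⟨⟨t, eq_top_iff.2 fun x _ => ?_⟩⟩
  obtain ⟨a, ha, hx⟩ := ht x
  have h1 : algebraMap A (FractionRing E) a * x ∈ Submodule.span (FractionRing A) (t : Set (FractionRing E)) :=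
    Submodule.span_le_restrictScalars A (FractionRing A) _ hx
  have h2 := Submodule.smul_mem _ (IsLocalization.mk' (FractionRing A) (1 : A) ⟨a, ha⟩) h1
  rwa [Algebra.smul_def, RingHom.algebraMap_toAlgebra, ← mul_assoc, mul_comm (fracHom hloc _),
    fracHom_mul hloc 1 ⟨a, ha⟩, map_one, one_mul] at h2

include hloc hfin in
/-- A non-zero-divisor of a subalgebra of `E` becomes a unit in the total fraction ring of `E`. -/
theorem isUnit_map_of_mem_nonZeroDivisors [IsArtinianRing (FractionRing A)] (j : R →ₐ[A] E)
    (hj : Function.Injective j) {r : R} (hr : r ∈ R⁰) : IsUnit (algebraMap E (FractionRing E) (j r)) := by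
  letI := (fracHom hloc).toAlgebra
  haveI := finite_fracHom hloc hfin
  haveI : IsScalarTower A (FractionRing A) (FractionRing E) :=
    IsScalarTower.of_algebraMap_eq fun a => (fracHom_algebraMap hloc a).symm
  let W : Submodule (FractionRing A) (FractionRing E) :=
    { carrier := {x | ∃ (a : A⁰) (z : R), algebraMap A (FractionRing E) a * x = algebraMap E _ (j z)}
      add_mem' := fun {x y} ⟨a, z, hz⟩ ⟨b, w, hw⟩ => ⟨a * b, algebraMap A R b * z + algebraMap A R a * w, by
        simp only [map_add, map_mul, AlgHom.commutes, ← hz, ← hw, Submonoid.coe_mul,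
          ← IsScalarTower.algebraMap_apply A E (FractionRing E)]
        ring⟩
      zero_mem' := ⟨1, 0, by simp⟩
      smul_mem' := fun k x ⟨a, z, hz⟩ => by
        obtain ⟨c, s, rfl⟩ := IsLocalization.exists_mk'_eq A⁰ k
        refine ⟨s * a, algebraMap A R c * z, ?_⟩
        simp only [map_mul, AlgHom.commutes, ← hz, ← IsScalarTower.algebraMap_apply A E (FractionRing E),
          Submonoid.coe_mul, Algebra.smul_def, RingHom.algebraMap_toAlgebra]
        rw [← fracHom_mul hloc c s]
        ring }
  let μ : W →ₗ[FractionRing A] W :=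
    (LinearMap.mulLeft (FractionRing A) (algebraMap E (FractionRing E) (j r))).restrict (fun x ⟨a, z, hz⟩ =>
      ⟨a, r * z, by rw [LinearMap.mulLeft_apply, map_mul, map_mul, ← hz]; ring⟩)
  have hμ : Function.Injective μ := by
    rw [injective_iff_map_eq_zero]
    rintro ⟨x, a, z, hz⟩ h
    have h' : algebraMap E (FractionRing E) (j r) * x = 0 := congrArg Subtype.val h
    have h0 : algebraMap E (FractionRing E) (j (r * z)) = 0 := by
      rw [map_mul, map_mul, ← hz, mul_left_comm, h', mul_zero]
    have h1 : r * z = 0 := hj ((IsFractionRing.injective E (FractionRing E) (h0.trans (map_zero _).symm)).trans (map_zero j).symm)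
    rw [(mem_nonZeroDivisors_iff.1 hr).1 z h1, map_zero, map_zero] at hz
    exact Subtype.ext (nzd_smul_eq_zero hloc a hz)
  obtain ⟨⟨y, hyW⟩, hy⟩ := IsArtinian.surjective_of_injective_endomorphism μ hμ
    ⟨1, ⟨1, 1, by simp⟩⟩
  exact IsUnit.of_mul_eq_one y (congrArg Subtype.val hy)

include hloc hfin in
theorem exists_finset_fractionRing [IsArtinianRing (FractionRing A)] (j : R →ₐ[A] E) (hj : Function.Injective j)
    (hA : ∀ a ∈ A⁰, algebraMap A R a ∈ R⁰) :
    ∃ t : Finset (FractionRing R), ∀ x : FractionRing R, ∃ a ∈ A⁰,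
      algebraMap A (FractionRing R) a * x ∈ Submodule.span A (t : Set (FractionRing R)) := by
  classical
  letI := (fracHom hloc).toAlgebra
  haveI := finite_fracHom hloc hfin
  haveI : IsScalarTower A (FractionRing A) (FractionRing E) :=
    IsScalarTower.of_algebraMap_eq fun a => (fracHom_algebraMap hloc a).symm
  let φ : FractionRing R →ₐ[A] FractionRing E := IsLocalization.liftAlgHom (M := R⁰)
    (f := (IsScalarTower.toAlgHom A E (FractionRing E)).comp j)
    (fun r => isUnit_map_of_mem_nonZeroDivisors hloc hfin j hj r.2)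
  have hφ : ∀ r, φ (algebraMap R _ r) = algebraMap E (FractionRing E) (j r) := fun r => by
    exact IsLocalization.lift_eq _ _
  have hφinj : Function.Injective φ := by
    rw [injective_iff_map_eq_zero]
    intro x hx
    obtain ⟨r, s, rfl⟩ := IsLocalization.exists_mk'_eq R⁰ x
    have h : φ (IsLocalization.mk' (FractionRing R) r s) * φ (algebraMap R _ (s : R)) = 0 := by rw [hx, zero_mul]
    rw [← map_mul, IsLocalization.mk'_spec, hφ] at h
    have hr : r = 0 := hj ((IsFractionRing.injective E (FractionRing E) (h.trans (map_zero _).symm)).trans (map_zero j).symm)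
    rw [hr, IsLocalization.mk'_zero]
  let W : Submodule (FractionRing A) (FractionRing E) :=
    { carrier := Set.range φ
      add_mem' := fun ⟨x, hx⟩ ⟨y, hy⟩ => ⟨x + y, by rw [map_add, hx, hy]⟩
      zero_mem' := ⟨0, map_zero _⟩
      smul_mem' := fun k x ⟨z, hz⟩ => by
        obtain ⟨c, s, rfl⟩ := IsLocalization.exists_mk'_eq A⁰ k
        obtain ⟨v, hv⟩ := ((IsLocalization.map_units (FractionRing R)
          (⟨_, hA _ s.2⟩ : R⁰))).exists_left_inv
        refine ⟨algebraMap A _ c * v * z, ?_⟩
        have e : φ v * algebraMap A (FractionRing E) s = 1 := by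
          rw [← AlgHom.commutes φ, ← map_mul, IsScalarTower.algebraMap_apply A R (FractionRing R), hv, map_one]
        rw [map_mul, map_mul, AlgHom.commutes, hz, Algebra.smul_def, RingHom.algebraMap_toAlgebra,
          ← fracHom_mul hloc c s]
        linear_combination (fracHom hloc (IsLocalization.mk' (FractionRing A) c s) * x) * e }
  obtain ⟨G, hG⟩ : W.FG := IsNoetherian.noetherian W
  have hGW : ∀ g : G, ∃ z, φ z = g := fun g => (hG ▸ Submodule.subset_span g.2 : (g : FractionRing E) ∈ W)
  choose pre hpre using hGW
  refine ⟨Finset.univ.image pre, fun x => ?_⟩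
  suffices h : ∀ w ∈ Submodule.span (FractionRing A) (G : Set (FractionRing E)), ∃ a ∈ A⁰, ∃ z ∈
      Submodule.span A ((Finset.univ.image pre : Finset _) : Set (FractionRing R)),
      φ z = algebraMap A (FractionRing E) a * w by
    obtain ⟨a, ha, z, hz, hzw⟩ := h (φ x) (hG.symm ▸ (show φ x ∈ W from ⟨x, rfl⟩))
    refine ⟨a, ha, ?_⟩
    rw [← hφinj (a₁ := z) (a₂ := algebraMap A _ a * x) (by rw [hzw, map_mul, AlgHom.commutes])]
    exact hz
  intro w hw
  induction hw using Submodule.span_induction with
  | mem g hg => exact ⟨1, one_mem _, pre ⟨g, hg⟩, Submodule.subset_span (by simp), by rw [hpre]; simp⟩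
  | zero => exact ⟨1, one_mem _, 0, Submodule.zero_mem _, by simp⟩
  | add y y' _ _ h h' =>
    obtain ⟨a, ha, z, hz, e⟩ := h
    obtain ⟨b, hb, z', hz', e'⟩ := h'
    refine ⟨a * b, mul_mem ha hb, b • z + a • z', add_mem (Submodule.smul_mem _ _ hz) (Submodule.smul_mem _ _ hz'), ?_⟩
    rw [map_add, map_smul, map_smul, e, e', Algebra.smul_def, Algebra.smul_def, map_mul]
    ring
  | smul k y _ h =>
    obtain ⟨a, ha, z, hz, e⟩ := h
    obtain ⟨c, s, rfl⟩ := IsLocalization.exists_mk'_eq A⁰ k
    refine ⟨s * a, mul_mem s.2 ha, c • z, Submodule.smul_mem _ _ hz, ?_⟩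
    rw [map_smul, e, Algebra.smul_def, Algebra.smul_def, RingHom.algebraMap_toAlgebra, map_mul,
      ← fracHom_mul hloc c s]
    ring

end

/-- An essentially étale local subalgebra of the strict henselization containing given elements. -/
theorem exists_essEtale_containing [IsLocalRing A] (S : Type u) [CommRing S] [IsLocalRing S] [Algebra A S]
    [IsLocalHom (algebraMap A S)] [Hensel.IsStrictHenselization A S] (T : Finset S) :
    ∃ E : Subalgebra A S, (∀ t ∈ T, t ∈ E) ∧ ∃ _ : IsLocalRing E,
      EGA4loc.IsEssentiallyEtale A E ∧ Module.FaithfullyFlat E S := by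
  obtain ⟨C, _, _, _, π, hπ⟩ := HenselConn.hasEtLift_strict A S T
  let q := (maximalIdeal S).comap π.toRingHom
  have hqA : q.comap (algebraMap A C) = maximalIdeal A := by
    rw [Ideal.comap_comap, show π.toRingHom.comp (algebraMap A C) = algebraMap A S from π.comp_algebraMap]
    exact IsLocalRing.maximalIdeal_comap (algebraMap A S)
  let ρ : Localization.AtPrime q →ₐ[A] S := IsLocalization.liftAlgHom (M := q.primeCompl) (f := π)
    (fun y => IsLocalRing.notMem_maximalIdeal.1 y.2)
  have hρ : ∀ x, ρ (algebraMap _ _ x) = π x := fun x => by simp [ρ]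
  letI : Algebra (Localization.AtPrime q) S := ρ.toRingHom.toAlgebra
  haveI : IsScalarTower A (Localization.AtPrime q) S := IsScalarTower.of_algebraMap_eq fun a => (ρ.commutes a).symm
  haveI : IsLocalHom (algebraMap (Localization.AtPrime q) S) := ⟨fun x hx => by
    obtain ⟨c, s, rfl⟩ := IsLocalization.exists_mk'_eq q.primeCompl x
    refine (IsLocalization.AtPrime.isUnit_mk'_iff (Localization.AtPrime q) q c s).2 ?_
    have h : ρ (IsLocalization.mk' (Localization.AtPrime q) c s) * π (s : C) = π c := by
      rw [← hρ, ← hρ, ← map_mul, IsLocalization.mk'_spec]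
    show ¬ π c ∈ maximalIdeal S
    rw [← h]
    exact IsLocalRing.notMem_maximalIdeal.2 (IsUnit.mul hx (IsLocalRing.notMem_maximalIdeal.1 s.2))⟩
  haveI : Algebra.FormallyUnramified C (Localization.AtPrime q) :=
    Algebra.FormallyUnramified.of_isLocalization q.primeCompl
  haveI : Algebra.FormallyUnramified A (Localization.AtPrime q) := Algebra.FormallyUnramified.comp A C _
  haveI : Algebra.EssFiniteType C (Localization.AtPrime q) := Algebra.EssFiniteType.of_isLocalization _ q.primeCompl
  haveI : Algebra.EssFiniteType A (Localization.AtPrime q) := Algebra.EssFiniteType.comp A C _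
  haveI : Module.Flat A S := HenselConn.flat_strict A S
  haveI : Module.Flat (Localization.AtPrime q) S :=
    Algebra.FormallyUnramified.flat_of_restrictScalars A (Localization.AtPrime q) S
  haveI hff : Module.FaithfullyFlat (Localization.AtPrime q) S := Module.FaithfullyFlat.of_flat_of_isLocalHom
  have hinj : Function.Injective ρ := FaithfulSMul.algebraMap_injective (Localization.AtPrime q) S
  let e : Localization.AtPrime q ≃ₐ[A] ρ.range := AlgEquiv.ofInjective ρ hinj
  refine ⟨ρ.range, fun t ht => ?_, e.toRingEquiv.isLocalRing,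
    ⟨C, inferInstance, inferInstance, q, inferInstance, inferInstance, hqA, ⟨e.symm⟩⟩, ?_⟩
  · obtain ⟨c, hc⟩ := hπ t ht
    exact ⟨algebraMap _ _ c, (hρ c).trans hc⟩
  · have h := (RingHom.faithfullyFlat_algebraMap_iff (R := Localization.AtPrime q) (S := S)).2 hff
    have h2 : (algebraMap ρ.range S).FaithfullyFlat := by
      have heq : algebraMap ρ.range S = (algebraMap (Localization.AtPrime q) S).comp e.symm.toRingEquiv.toRingHom := by
        refine RingHom.ext fun x => ?_
        show (x : S) = ρ (e.symm x)
        conv_lhs => rw [← e.apply_symm_apply x]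
        rfl
      rw [heq]
      exact RingHom.FaithfullyFlat.stableUnderComposition _ _ (RingHom.FaithfullyFlat.of_bijective e.symm.bijective) h
    exact RingHom.faithfullyFlat_algebraMap_iff.1 h2

end Groth.Agent.EssEtFrac5
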